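import Mathlib

/-! Two ternary polynomials vanishing at the origin have another common zero (algebraically closed
field); highest-degree components. -/

universe u

open MvPolynomial

namespace PlaneZero

variable {k : Type u} [Field k] {σ : Type*}

theorem exists_common_zero [IsAlgClosed k] (p q : MvPolynomial (Fin 3) k)
    (hp : eval 0 p = 0) (hq : eval 0 q = 0) :
    ∃ v : Fin 3 → k, v ≠ 0 ∧ eval v p = 0 ∧ eval v q = 0 := by
  classical
  by_contra h
  push Not at h
  let m : Ideal (MvPolynomial (Fin 3) k) := RingHom.ker (eval (0 : Fin 3 → k))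
  have : m.IsPrime := RingHom.ker_isPrime _
  have hrad : (Ideal.span {p, q}).radical = m := by
    rw [← vanishingIdeal_zeroLocus_eq_radical (K := k)]
    have : zeroLocus k (Ideal.span {p, q}) = {(0 : Fin 3 → k)} := by
      ext v
      rw [zeroLocus_span]
      simp only [Set.mem_setOf_eq, Set.mem_singleton_iff, Set.mem_insert_iff, forall_eq_or_imp, forall_eq,
        aeval_eq_eval]
      exact ⟨fun ⟨a, b⟩ => by_contra fun hv => h v hv a b, fun hv => by subst hv; exact ⟨hp, hq⟩⟩
    rw [this]
    ext r
    rw [mem_vanishingIdeal_singleton_iff, aeval_eq_eval]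
    rfl
  have hmin : m ∈ (Ideal.span (({p, q} : Finset (MvPolynomial (Fin 3) k)) : Set _)).minimalPrimes := by
    simp only [Finset.coe_insert, Finset.coe_singleton]
    refine ⟨⟨inferInstance, hrad ▸ Ideal.le_radical⟩, fun J ⟨hJ, hle⟩ _ => ?_⟩
    rw [← hrad]
    exact (hJ.isRadical.radical_le_iff).2 hle
  have h2 : m.height ≤ 2 :=
    (Ideal.height_le_card_of_mem_minimalPrimes_span_finset hmin).trans (by exact_mod_cast Finset.card_le_two)
  let φ : ℕ → MvPolynomial (Fin 3) k →ₐ[k] MvPolynomial (Fin 3) k := fun j =>
    aeval fun i => if j ≤ i.val then X i else 0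
  let K : ℕ → Ideal (MvPolynomial (Fin 3) k) := fun j => RingHom.ker (φ j).toRingHom
  have : ∀ j, (K j).IsPrime := fun j => RingHom.ker_isPrime _
  have hlt : ∀ j : Fin 3, K j.val < K (j.val + 1) := by
    intro j
    have hcomp : (φ (j.val + 1)).comp (φ j.val) = φ (j.val + 1) := algHom_ext fun i => by
      simp only [AlgHom.comp_apply, φ, aeval_X]
      split_ifs <;> simp <;> omega
    refine lt_of_le_of_ne (fun r hr => ?_) fun he => ?_
    · show φ (j.val + 1) r = 0
      rw [← hcomp, AlgHom.comp_apply, show φ j.val r = 0 from hr, map_zero]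
    · have hmem : (X j : MvPolynomial (Fin 3) k) ∈ K (j.val + 1) := by
        show φ (j.val + 1) (X j) = 0
        simp [φ]
      rw [← he] at hmem
      have : φ j.val (X j) = 0 := hmem
      simp [φ] at this
  have hm : m = K 3 := by
    have : φ 3 = (Algebra.ofId k _).comp (aeval (0 : Fin 3 → k)) := algHom_ext fun i => by
      simp [φ, Nat.not_le.2 i.2]
    ext r
    show eval 0 r = 0 ↔ φ 3 r = 0
    rw [this, ← aeval_eq_eval]
    simp [Algebra.ofId_apply]
  rw [hm] at h2
  have e1 := Ideal.height_add_one_le_of_lt_of_isPrime (hlt 0)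
  have e2 := Ideal.height_add_one_le_of_lt_of_isPrime (hlt 1)
  have e3 := Ideal.height_add_one_le_of_lt_of_isPrime (hlt 2)
  have : (3 : ℕ∞) ≤ (K 3).height := by
    refine le_trans ?_ e3
    refine le_trans ?_ (add_le_add_left e2 1)
    refine le_trans ?_ (add_le_add_left (add_le_add_left e1 1) 1)
    rw [add_assoc, add_assoc]
    exact le_add_left (by norm_num)
  exact absurd (this.trans h2) (by decide)

/-- If a homogeneous polynomial is divisible by the square of a nonunit, then it is divisible by the
square of a polynomial vanishing at the origin. -/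
theorem exists_sq_dvd_eval_zero {g : MvPolynomial σ k} {n : ℕ} (hg : g.IsHomogeneous n) (hg0 : g ≠ 0)
    {h : MvPolynomial σ k} (hh : ¬ IsUnit h) (hdvd : h * h ∣ g) :
    ∃ h' : MvPolynomial σ k, eval 0 h' = 0 ∧ h' * h' ∣ g := by
  obtain ⟨m, hm⟩ := hdvd
  let φ : MvPolynomial σ k →ₐ[k] Polynomial (MvPolynomial σ k) :=
    aeval fun i => Polynomial.C (X i) * Polynomial.X
  have hφg : φ g = Polynomial.C g * Polynomial.X ^ n := by
    show aeval _ g = _
    rw [aeval_def, eval₂_eq]
    conv_rhs => rw [g.as_sum, map_sum, Finset.sum_mul]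
    refine Finset.sum_congr rfl fun d hd => ?_
    have hdeg : ∑ i ∈ d.support, d i = n := (hg.degree_eq_sum_deg_support hd).symm
    simp only [mul_pow, Finset.prod_mul_distrib, Finset.prod_pow_eq_pow_sum, ← map_pow, ← map_prod]
    rw [show ∑ i ∈ d.support, d i = n from hdeg, monomial_eq, Finsupp.prod, map_mul, mul_assoc]
    rfl
  have hh0 : h ≠ 0 := fun e => hg0 (by rw [hm, e, zero_mul, zero_mul])
  have hφ : Function.Injective φ := by
    refine Function.LeftInverse.injective (g := Polynomial.eval 1) fun p => ?_
    have : (Polynomial.evalRingHom (1 : MvPolynomial σ k)).comp φ.toRingHom = RingHom.id _ := by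
      apply MvPolynomial.ringHom_ext <;> intro <;> simp [φ]
    exact congr($this p)
  have hdeg : 0 < (φ h).natDegree := by
    by_contra hd
    obtain ⟨c, hc⟩ := Polynomial.natDegree_eq_zero.1 (Nat.eq_zero_of_not_pos hd)
    have e1 : h = c := by
      have := congrArg (Polynomial.eval (1 : MvPolynomial σ k)) hc
      have e : (Polynomial.evalRingHom (1 : MvPolynomial σ k)).comp φ.toRingHom = RingHom.id _ := by
        apply MvPolynomial.ringHom_ext <;> intro <;> simp [φ]
      rw [Polynomial.eval_C] at this
      rw [this]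
      exact congr($e h).symm
    have e0 : c = C (eval 0 h) := by
      have := congrArg (Polynomial.eval (0 : MvPolynomial σ k)) hc
      have e : (Polynomial.evalRingHom (0 : MvPolynomial σ k)).comp φ.toRingHom =
          C.comp (eval (0 : σ → k)) := by
        apply MvPolynomial.ringHom_ext <;> intro <;> simp [φ]
      rw [Polynomial.eval_C] at this
      exact this.trans congr($e h)
    refine hh (e1 ▸ e0 ▸ (IsUnit.map C ?_))
    refine isUnit_iff_ne_zero.2 fun h0 => hh0 ?_
    rw [e1, e0, h0, map_zero]
  refine ⟨(φ h).leadingCoeff, ?_, (φ m).leadingCoeff, ?_⟩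
  · have e : (Polynomial.mapRingHom (eval (0 : σ → k))).comp φ.toRingHom =
        Polynomial.C.comp (eval (0 : σ → k)) := by
      apply MvPolynomial.ringHom_ext <;> intro <;> simp [φ]
    have := congrArg (fun p : Polynomial k => p.coeff (φ h).natDegree) congr($e h)
    simpa [Polynomial.coeff_C, hdeg.ne'] using this
  · have := congrArg Polynomial.leadingCoeff hφg
    rw [hm, map_mul, map_mul, Polynomial.leadingCoeff_mul, Polynomial.leadingCoeff_mul,
      Polynomial.leadingCoeff_mul_X_pow, Polynomial.leadingCoeff_C] at this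
    exact hm ▸ this.symm

end PlaneZero
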